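import Cfsg.Agent.Lib.Recog.SporBound.J1NoC.Part0
import Cfsg.Agent.Lib.Recog.SporBound.J1NoC.Part1

set_option autoImplicit false
set_option maxRecDepth 20000

/-! The certificate is valid. -/

namespace CfsgLib.Recog.SporBound.J1NoC
open CfsgLib.Recog.SporBound
open CfsgLib.ThreeTrans.CosetIndex (forallFrom)

theorem defs_all : forallFrom cert.defOK 0 (cert.nd) = true := by
  have h0 := defs0
  have h1 : forallFrom cert.defOK 0 3000 = true := forallFrom_cat h0 defs1 (by decide +kernel) (by decide +kernel)
  have h2 : forallFrom cert.defOK 0 4500 = true := forallFrom_cat h1 defs2 (by decide +kernel) (by decide +kernel)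
  have h3 : forallFrom cert.defOK 0 4843 = true := forallFrom_cat h2 defs3 (by decide +kernel) (by decide +kernel)
  exact (show 4843 = cert.nd by decide +kernel) ▸ h3

theorem steps_all : cert.stepsPart 0 (cert.stepChunks) = true := by
  have h0 := steps0
  have h1 : cert.stepsPart 0 69 = true := Cert.stepsPart_cat h0 steps1 (by decide +kernel) (by decide +kernel)
  exact (show 69 = cert.stepChunks by decide +kernel) ▸ h1

theorem finals_all : cert.finalsPart 0 (cert.finalChunks) = true := by
  have h0 := finals0
  exact (show 1 = cert.finalChunks by decide +kernel) ▸ h0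

theorem ok : cert.OK where
  base := by decide +kernel
  defs := defs_all
  steps := steps_all
  finals := finals_all

end CfsgLib.Recog.SporBound.J1NoC
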